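import Mathlib

/-!
# The Kegel-Wielandt theorem (S4243): vocabulary  (helper786)

* `Sat p H` : `H ∩ P` is a Sylow `p`-subgroup of `H` for every Sylow `p`-subgroup `P` of `G`;
* `All H` : `Sat p H` for all primes `p`;
* `IH n` : the theorem for all groups of order `< n`;
* `Row G` : no proper simple non-abelian subgroup of the (simple) group `G` satisfies `All`.
-/

set_option autoImplicit false

namespace Cfsg.Agent.H786.KW

open Subgroup

variable {G : Type*} [Group G]

/-- `H ∩ P` is a Sylow `p`-subgroup of `H`, for every Sylow `p`-subgroup `P` of `G`. -/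
def Sat (p : ℕ) (H : Subgroup G) : Prop := ∀ P : Sylow p G, ¬ p ∣ (P : Subgroup G).relIndex H

/-- `Sat p H` for all primes `p`. -/
def All (H : Subgroup G) : Prop := ∀ p : ℕ, p.Prime → Sat p H

/-- The Kegel-Wielandt theorem for the groups of order less than `n` (groups in `Type`; `IH.apply` in `Inherit.lean`
gives all universes). -/
def IH (n : ℕ) : Prop :=
  ∀ (K : Type) [Group K] [Finite K], Nat.card K < n → ∀ H : Subgroup K, All H → H.IsSubnormal

/-- The row of `G`: a non-abelian simple subgroup of `G` with `All` is `G`. -/
def Row (G : Type*) [Group G] : Prop :=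
  IH (Nat.card G) → ∀ L : Subgroup G, IsSimpleGroup ↥L → ¬ IsMulCommutative ↥L → All L → L = ⊤

end Cfsg.Agent.H786.KW
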