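import Cfsg.Agent.H786.KW.Defs

/-!
# The Kegel-Wielandt theorem (S4243): counting Sylow subgroups  (helper622)

* `Sat.syl` : the Sylow subgroup `H ∩ P` of `H`
* `Sat.card_sylow` : `#Syl_p(G) = #Syl_p(H) * #{P ≥ Q}`
* `Sat.index_centralizer_le` : `|x^G| ≤ #Syl_p(H) * |x^G ∩ P|`
* `Sat.index_centralizer_dvd` : abelian `P`: `|G : C_G(Q)|` divides `#Syl_p(H) * |N_G(P) : C_G(P)|`
* `Sat.not_dvd_of_card_sq` : `|G|_p = p ^ 2`
-/

set_option autoImplicit false

namespace Cfsg.Agent.H786.KW

open Subgroup MulAction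
open scoped Pointwise

section syl

variable {G : Type*} [Group G] {p : ℕ} {H : Subgroup G}

/-- `H ∩ P` as a Sylow subgroup of `H` -/
noncomputable def Sat.syl [Fact p.Prime] (h : Sat p H) (P : Sylow p G) : Sylow p H :=
  IsPGroup.toSylow (P := (P : Subgroup G).subgroupOf H) P.isPGroup'.comap_subtype (h P)

theorem Sat.mem_syl [Fact p.Prime] (h : Sat p H) (P : Sylow p G) (x : H) : x ∈ h.syl P ↔ (x : G) ∈ P := Iff.rfl

theorem Sat.syl_smul [Fact p.Prime] (h : Sat p H) (P : Sylow p G) (a : H) :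
    h.syl ((a : G) • P) = a • h.syl P := by
  apply Sylow.ext
  ext x
  have h1 : x ∈ ((a • h.syl P : Sylow p H) : Subgroup H) ↔ a⁻¹ * x * a ∈ h.syl P := by
    rw [Sylow.coe_subgroup_smul, mem_pointwise_smul_iff_inv_smul_mem, ← map_inv, MulAut.smul_def, MulAut.conj_apply,
      inv_inv]
    rfl
  have h2 : (x : G) ∈ (((a : G) • P : Sylow p G) : Subgroup G) ↔ (a : G)⁻¹ * x * a ∈ P := by
    rw [Sylow.coe_subgroup_smul, mem_pointwise_smul_iff_inv_smul_mem, ← map_inv, MulAut.smul_def, MulAut.conj_apply,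
      inv_inv]
    rfl
  rw [h1, h.mem_syl]
  exact h2

theorem Sat.syl_eq_iff [Fact p.Prime] (h : Sat p H) (P : Sylow p G) (Q : Sylow p H) :
    h.syl P = Q ↔ (Q : Subgroup H).map H.subtype ≤ (P : Subgroup G) := by
  constructor
  · rintro rfl x ⟨y, hy, rfl⟩
    exact (h.mem_syl P y).1 hy
  · intro hle
    have h1 : (Q : Subgroup H) ≤ h.syl P := fun x hx => (h.mem_syl P x).2 (hle ⟨x, hx, rfl⟩)
    exact Sylow.ext (Q.is_maximal' (h.syl P).isPGroup' h1)

end syl

variable {G : Type*} [Group G] [Finite G] {p : ℕ}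

/-- every Sylow `p`-subgroup of `G` contains exactly one Sylow `p`-subgroup of `H` -/
theorem Sat.card_sylow [Fact p.Prime] {H : Subgroup G} (h : Sat p H) (Q : Sylow p H) :
    Nat.card (Sylow p G) =
      Nat.card (Sylow p H) * Nat.card {P : Sylow p G // (Q : Subgroup H).map H.subtype ≤ (P : Subgroup G)} := by
  choose a ha using fun Q' : Sylow p H => MulAction.exists_smul_eq H Q Q'
  have key : ∀ P : Sylow p G, (Q : Subgroup H).map H.subtype ≤
      (((((a (h.syl P))⁻¹ : H) : G) • P : Sylow p G) : Subgroup G) := fun P => by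
    rw [← h.syl_eq_iff, h.syl_smul, inv_smul_eq_iff, ha]
  rw [← Nat.card_prod]
  refine Nat.card_congr ⟨fun P => (h.syl P, ⟨_, key P⟩), fun R => ((a R.1 : H) : G) • R.2.1, fun P => ?_, fun R => ?_⟩
  · show ((a (h.syl P) : H) : G) • ((((a (h.syl P))⁻¹ : H) : G) • P) = P
    rw [Subgroup.coe_inv, smul_inv_smul]
  · obtain ⟨Q', P, hP⟩ := R
    have h1 : h.syl (((a Q' : H) : G) • P) = Q' := by
      rw [h.syl_smul, (h.syl_eq_iff P Q).2 hP, ha]
    refine Prod.ext h1 (Subtype.ext ?_)
    show (((a (h.syl (((a Q' : H) : G) • P)))⁻¹ : H) : G) • (((a Q' : H) : G) • P) = P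
    rw [h1, Subgroup.coe_inv, inv_smul_smul]

omit [Finite G] in
/-- the index of the centralizer is the number of conjugates -/
theorem index_eq_card_isConj (x : G) : (centralizer ({x} : Set G)).index = Nat.card {y : G // IsConj x y} := by
  have hker : ∀ a b : G, a * x * a⁻¹ = b * x * b⁻¹ ↔ a⁻¹ * b ∈ centralizer ({x} : Set G) := by
    intro a b
    rw [mem_centralizer_singleton_iff]
    constructor
    · intro h1
      have h2 : b * x = a * x * a⁻¹ * b := by rw [h1]; group
      rw [mul_assoc, h2]; group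
    · intro h1
      have h2 : b * x = a * ((a⁻¹ * b) * x) := by group
      rw [h2, h1]; group
  refine Nat.card_congr (Equiv.ofBijective
    (Quotient.lift (fun g : G => (⟨g * x * g⁻¹, isConj_iff.2 ⟨g, rfl⟩⟩ : {y : G // IsConj x y}))
      fun a b hab => Subtype.ext ((hker a b).2 (QuotientGroup.leftRel_apply.1 hab))) ⟨?_, ?_⟩)
  · intro a b
    induction a using Quotient.inductionOn with | _ a
    induction b using Quotient.inductionOn with | _ b
    intro hab
    exact Quotient.sound (QuotientGroup.leftRel_apply.2 ((hker a b).1 (congrArg Subtype.val hab)))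
  · rintro ⟨y, hy⟩
    obtain ⟨g, rfl⟩ := isConj_iff.1 hy
    exact ⟨Quotient.mk _ g, rfl⟩

omit [Finite G] in
theorem mem_smul_sylow {g x : G} {P : Sylow p G} : x ∈ g • P ↔ g⁻¹ * x * g ∈ P := by
  show x ∈ ((g • P : Sylow p G) : Subgroup G) ↔ _
  rw [Sylow.coe_subgroup_smul, mem_pointwise_smul_iff_inv_smul_mem, ← map_inv, MulAut.smul_def, MulAut.conj_apply,
    inv_inv]
  rfl

/-- counting the pairs (conjugate of `x`, Sylow subgroup containing it) -/
theorem card_conj_mul [Fact p.Prime] (P : Sylow p G) (x : G) :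
    Nat.card {y : G // IsConj x y} * Nat.card {R : Sylow p G // x ∈ R} =
      Nat.card (Sylow p G) * Nat.card {y : G // y ∈ P ∧ IsConj x y} := by
  have hg : ∀ y : {y : G // IsConj x y}, ∃ g : G, g * x * g⁻¹ = y := fun y => isConj_iff.1 y.2
  choose g hg using hg
  choose c hc using fun R : Sylow p G => MulAction.exists_smul_eq G P R
  rw [← Nat.card_prod, ← Nat.card_prod]
  have e1 : {z : {y : G // IsConj x y} × Sylow p G // (z.1 : G) ∈ z.2} ≃
      {y : G // IsConj x y} × {R : Sylow p G // x ∈ R} :=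
    { toFun := fun z => (z.1.1, ⟨(g z.1.1)⁻¹ • z.1.2, by
        rw [mem_smul_sylow, inv_inv, hg]
        exact z.2⟩)
      invFun := fun z => ⟨(z.1, g z.1 • z.2.1), by
        show (z.1 : G) ∈ g z.1 • z.2.1
        rw [mem_smul_sylow, ← hg z.1]
        have h2 : (g z.1)⁻¹ * (g z.1 * x * (g z.1)⁻¹) * g z.1 = x := by group
        rw [h2]
        exact z.2.2⟩
      left_inv := fun z => Subtype.ext (Prod.ext rfl (smul_inv_smul _ _))
      right_inv := fun z => Prod.ext rfl (Subtype.ext (inv_smul_smul _ _)) }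
  have e2 : {z : {y : G // IsConj x y} × Sylow p G // (z.1 : G) ∈ z.2} ≃
      Sylow p G × {y : G // y ∈ P ∧ IsConj x y} :=
    { toFun := fun z => (z.1.2, ⟨(c z.1.2)⁻¹ * z.1.1 * c z.1.2, by
        have h1 := z.2
        rw [← hc z.1.2, mem_smul_sylow] at h1
        refine ⟨h1, z.1.1.2.trans (isConj_iff.2 ⟨(c z.1.2)⁻¹, by rw [inv_inv]⟩)⟩⟩)
      invFun := fun z => ⟨(⟨c z.1 * z.2.1 * (c z.1)⁻¹, z.2.2.2.trans (isConj_iff.2 ⟨c z.1, rfl⟩)⟩, z.1), by
        show c z.1 * z.2.1 * (c z.1)⁻¹ ∈ z.1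
        have h3 : c z.1 * z.2.1 * (c z.1)⁻¹ ∈ c z.1 • P := by
          rw [mem_smul_sylow]
          have h2 : (c z.1)⁻¹ * (c z.1 * z.2.1 * (c z.1)⁻¹) * c z.1 = z.2.1 := by group
          rw [h2]
          exact z.2.2.1
        rwa [hc] at h3⟩
      left_inv := fun z => by
        refine Subtype.ext (Prod.ext (Subtype.ext ?_) rfl)
        show c z.1.2 * ((c z.1.2)⁻¹ * (z.1.1 : G) * c z.1.2) * (c z.1.2)⁻¹ = z.1.1
        group
      right_inv := fun z => by
        refine Prod.ext rfl (Subtype.ext ?_)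
        show (c z.1)⁻¹ * (c z.1 * (z.2.1 : G) * (c z.1)⁻¹) * c z.1 = z.2.1
        group }
  rw [← Nat.card_congr e1, Nat.card_congr e2]

omit [Finite G] in
/-- a Sylow subgroup over a given Sylow subgroup of `H` -/
theorem exists_over [Fact p.Prime] {H : Subgroup G} (Q : Sylow p H) :
    ∃ P : Sylow p G, (Q : Subgroup H).map H.subtype ≤ (P : Subgroup G) :=
  (Q.isPGroup'.map H.subtype).exists_le_sylow

/-- a `p`-element of `H` lies in a Sylow subgroup of `H` -/
theorem exists_sylow_mem [Fact p.Prime] {H : Subgroup G} {x : G} (hx : x ∈ H) {k : ℕ} (hk : x ^ p ^ k = 1) :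
    ∃ Q : Sylow p H, x ∈ (Q : Subgroup H).map H.subtype := by
  have h1 : IsPGroup p (zpowers (⟨x, hx⟩ : H)) := by
    rw [IsPGroup.iff_card] 
    have h2 : orderOf (⟨x, hx⟩ : H) ∣ p ^ k := by
      rw [Subgroup.orderOf_mk]
      exact orderOf_dvd_of_pow_eq_one hk
    obtain ⟨j, -, hj⟩ := (Nat.dvd_prime_pow Fact.out).1 h2
    exact ⟨j, by rw [Nat.card_zpowers, hj]⟩
  obtain ⟨Q, hQ⟩ := h1.exists_le_sylow
  exact ⟨Q, ⟨⟨x, hx⟩, hQ (mem_zpowers _), rfl⟩⟩

/-- `|x^G| ≤ |Syl_p(H)| |x^G ∩ P|` -/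
theorem Sat.index_centralizer_le [Fact p.Prime] {H : Subgroup G} (h : Sat p H) (P : Sylow p G) {x : G} (hx : x ∈ H)
    {k : ℕ} (hk : x ^ p ^ k = 1) :
    (centralizer ({x} : Set G)).index ≤ Nat.card (Sylow p H) * Nat.card {y : G // y ∈ P ∧ IsConj x y} := by
  obtain ⟨Q, hQ⟩ := exists_sylow_mem (p := p) hx hk
  have h1 := h.card_sylow Q
  have h2 := card_conj_mul P x
  rw [h1] at h2
  obtain ⟨R, hR⟩ := exists_over Q
  have : Nonempty {P : Sylow p G // (Q : Subgroup H).map H.subtype ≤ (P : Subgroup G)} := ⟨⟨R, hR⟩⟩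
  have hpos : 0 < Nat.card {P : Sylow p G // (Q : Subgroup H).map H.subtype ≤ (P : Subgroup G)} := Nat.card_pos
  have h3 : Nat.card {P : Sylow p G // (Q : Subgroup H).map H.subtype ≤ (P : Subgroup G)} ≤
      Nat.card {R : Sylow p G // x ∈ R} :=
    Nat.card_le_card_of_injective (fun R => ⟨R.1, R.2 hQ⟩) fun a b hab => by
      have h5 := congrArg Subtype.val hab
      exact Subtype.ext h5
  rw [index_eq_card_isConj]
  generalize Nat.card {y : G // IsConj x y} = C at *
  generalize Nat.card {R : Sylow p G // x ∈ R} = A at *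
  generalize Nat.card {P : Sylow p G // (Q : Subgroup H).map H.subtype ≤ (P : Subgroup G)} = b at *
  generalize Nat.card {y : G // y ∈ P ∧ IsConj x y} = B at *
  have h4 : C * b ≤ Nat.card (Sylow p H) * B * b := by
    calc C * b ≤ C * A := Nat.mul_le_mul_left _ h3
      _ = _ := h2
      _ = _ := by ring
  exact Nat.le_of_mul_le_mul_right h4 hpos

omit [Finite G] in
theorem smul_normalizer (g : G) (K : Subgroup G) :
    MulAut.conj g • normalizer (K : Set G) = normalizer ((MulAut.conj g • K : Subgroup G) : Set G) := by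
  ext x
  rw [mem_pointwise_smul_iff_inv_smul_mem, mem_normalizer_iff, mem_normalizer_iff]
  constructor
  · intro h y
    have := h ((MulAut.conj g)⁻¹ • y)
    simp only [mem_pointwise_smul_iff_inv_smul_mem, ← map_inv, MulAut.smul_def, MulAut.conj_apply,
      inv_inv] at this ⊢
    rw [this]
    have e : g⁻¹ * x * g * (g⁻¹ * y * g) * (g⁻¹ * x * g)⁻¹ = g⁻¹ * (x * y * x⁻¹) * g := by group
    rw [e]
  · intro h y
    have := h (MulAut.conj g • y)
    simp only [mem_pointwise_smul_iff_inv_smul_mem, ← map_inv, MulAut.smul_def, MulAut.conj_apply,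
      inv_inv] at this ⊢
    have e1 : g⁻¹ * (g * y * g⁻¹) * g = y := by group
    have e2 : g⁻¹ * (x * (g * y * g⁻¹) * x⁻¹) * g = g⁻¹ * x * g * y * (g⁻¹ * x * g)⁻¹ := by group
    rw [e1, e2] at this
    exact this

omit [Finite G] in
theorem smul_centralizer (g : G) (K : Subgroup G) :
    MulAut.conj g • centralizer (K : Set G) = centralizer ((MulAut.conj g • K : Subgroup G) : Set G) := by
  ext x
  rw [mem_pointwise_smul_iff_inv_smul_mem, mem_centralizer_iff, mem_centralizer_iff]
  constructor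
  · intro h y hy
    rw [SetLike.mem_coe, mem_pointwise_smul_iff_inv_smul_mem] at hy
    have := h _ hy
    simp only [← map_inv, MulAut.smul_def, MulAut.conj_apply, inv_inv] at this
    calc y * x = g * ((g⁻¹ * y * g) * (g⁻¹ * x * g)) * g⁻¹ := by group
      _ = g * ((g⁻¹ * x * g) * (g⁻¹ * y * g)) * g⁻¹ := by rw [this]
      _ = _ := by group
  · intro h y hy
    have := h (MulAut.conj g • y) (by
      rw [SetLike.mem_coe, mem_pointwise_smul_iff_inv_smul_mem, inv_smul_smul]
      exact hy)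
    simp only [← map_inv, MulAut.smul_def, MulAut.conj_apply, inv_inv] at this ⊢
    calc y * (g⁻¹ * x * g) = g⁻¹ * ((g * y * g⁻¹) * x) * g := by group
      _ = g⁻¹ * (x * (g * y * g⁻¹)) * g := by rw [this]
      _ = _ := by group

omit [Finite G] in
theorem relIndex_conj (g : G) (P : Sylow p G) :
    (centralizer (((g • P : Sylow p G) : Subgroup G) : Set G)).relIndex
        (normalizer (((g • P : Sylow p G) : Subgroup G) : Set G)) =
      (centralizer ((P : Subgroup G) : Set G)).relIndex (normalizer ((P : Subgroup G) : Set G)) := by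
  rw [Sylow.coe_subgroup_smul, ← smul_centralizer, ← smul_normalizer, Subgroup.relIndex_pointwise_smul]

/-- abelian Sylow `p`-subgroups: `|G : C_G(Q)|` divides `|Syl_p(H)| |N_G(P) : C_G(P)|` -/
theorem Sat.index_centralizer_dvd [Fact p.Prime] {H : Subgroup G} (h : Sat p H) (P : Sylow p G)
    (hP : IsMulCommutative (P : Subgroup G)) (Q : Sylow p H) :
    (centralizer (((Q : Subgroup H).map H.subtype : Subgroup G) : Set G)).index ∣
      Nat.card (Sylow p H) * (centralizer ((P : Subgroup G) : Set G)).relIndex (normalizer ((P : Subgroup G) : Set G)) := by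
  obtain ⟨P₀, hP₀⟩ := exists_over Q
  obtain ⟨g, hg⟩ := MulAction.exists_smul_eq G P P₀
  rw [← relIndex_conj g P, hg]
  set Q' : Subgroup G := (Q : Subgroup H).map H.subtype with hQ'
  set C : Subgroup G := centralizer (Q' : Set G) with hC
  set N : Subgroup G := normalizer ((P₀ : Subgroup G) : Set G) with hN
  -- the Sylow subgroups are abelian
  have hab : ∀ R : Sylow p G, ∀ a ∈ R, ∀ b ∈ R, a * b = b * a := by
    intro R a ha b hb
    obtain ⟨c, rfl⟩ := MulAction.exists_smul_eq G P R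
    rw [mem_smul_sylow] at ha hb
    have h1 := congrArg Subtype.val (hP.is_comm.comm (⟨_, ha⟩ : (P : Subgroup G)) ⟨_, hb⟩)
    have h2 : (c⁻¹ * a * c) * (c⁻¹ * b * c) = (c⁻¹ * b * c) * (c⁻¹ * a * c) := h1
    calc a * b = c * ((c⁻¹ * a * c) * (c⁻¹ * b * c)) * c⁻¹ := by group
      _ = c * ((c⁻¹ * b * c) * (c⁻¹ * a * c)) * c⁻¹ := by rw [h2]
      _ = _ := by group
  have hleC : ∀ R : Sylow p G, Q' ≤ R → (R : Subgroup G) ≤ C := by
    intro R hR a ha
    rw [hC, mem_centralizer_iff]
    intro b hb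
    exact hab R b (hR hb) a ha
  -- `C` acts transitively
  have hb : Nat.card {R : Sylow p G // Q' ≤ (R : Subgroup G)} = N.relIndex C := by
    symm
    have hmem : ∀ c : C, Q' ≤ (((c : G) • P₀ : Sylow p G) : Subgroup G) := by
      intro c y hy
      show y ∈ (c : G) • P₀
      rw [mem_smul_sylow]
      have h1 := mem_centralizer_iff.1 c.2 y hy
      have h2 : (c : G)⁻¹ * y * c = y := by rw [mul_assoc, h1, inv_mul_cancel_left]
      rw [h2]
      exact hP₀ hy
    have hker : ∀ a b : C, (a : G) • P₀ = (b : G) • P₀ ↔ a⁻¹ * b ∈ N.subgroupOf C := by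
      intro a b
      rw [mem_subgroupOf]
      have h1 : (a : G) • P₀ = (b : G) • P₀ ↔ ((a : G)⁻¹ * b) • P₀ = P₀ := by
        rw [mul_smul, inv_smul_eq_iff, eq_comm]
      rw [h1, Sylow.smul_eq_iff_mem_normalizer]
      rfl
    refine Nat.card_congr (Equiv.ofBijective
      (Quotient.lift (fun c : C => (⟨(c : G) • P₀, hmem c⟩ : {R : Sylow p G // Q' ≤ (R : Subgroup G)}))
        fun a b hab => Subtype.ext ((hker a b).2 (QuotientGroup.leftRel_apply.1 hab))) ⟨?_, ?_⟩)
    · intro a b
      induction a using Quotient.inductionOn with | _ a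
      induction b using Quotient.inductionOn with | _ b
      intro hab
      exact Quotient.sound (QuotientGroup.leftRel_apply.2 ((hker a b).1 (congrArg Subtype.val hab)))
    · rintro ⟨R, hR⟩
      obtain ⟨c, hc⟩ := MulAction.exists_smul_eq C (P₀.subtype (hleC P₀ hP₀)) (R.subtype (hleC R hR))
      refine ⟨Quotient.mk _ c, Subtype.ext ?_⟩
      show (c : G) • P₀ = R
      apply Sylow.ext
      apply le_antisymm
      · intro x hx
        have hxC : x ∈ C := by
          have h1 : (c : G)⁻¹ * x * c ∈ P₀ := mem_smul_sylow.1 hx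
          have h2 := hleC P₀ hP₀ h1
          have h3 : x = (c : G) * ((c : G)⁻¹ * x * c) * (c : G)⁻¹ := by group
          rw [h3]
          exact C.mul_mem (C.mul_mem c.2 h2) (C.inv_mem c.2)
        have h1 : (⟨x, hxC⟩ : C) ∈ c • P₀.subtype (hleC P₀ hP₀) := by
          rw [mem_smul_sylow]
          have h4 : x ∈ (c : G) • P₀ := hx
          exact (mem_smul_sylow.1 h4 : (c : G)⁻¹ * x * c ∈ P₀)
        rw [hc] at h1
        exact h1
      · intro x hx
        have h1 : (⟨x, hleC R hR hx⟩ : C) ∈ R.subtype (hleC R hR) := hx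
        rw [← hc, mem_smul_sylow] at h1
        exact mem_smul_sylow.2 h1
  have h1 := h.card_sylow Q
  rw [← hQ', hb, Sylow.card_eq_index_normalizer P₀] at h1
  change N.index = _ at h1
  have h2 : C.index * N.relIndex C = N.index * C.relIndex N := by
    have e1 : (N ⊓ C).index = N.relIndex C * C.index := by
      rw [← Subgroup.relIndex_mul_index (inf_le_right : N ⊓ C ≤ C), inf_relIndex_right]
    have e2 : (N ⊓ C).index = C.relIndex N * N.index := by
      rw [← Subgroup.relIndex_mul_index (inf_le_left : N ⊓ C ≤ N), inf_relIndex_left]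
    rw [mul_comm, ← e1, e2, mul_comm]
  have hpos : 0 < N.relIndex C := Nat.pos_of_ne_zero (Subgroup.index_ne_zero_of_finite (H := N.subgroupOf C))
  have h3 : C.index = Nat.card (Sylow p H) * C.relIndex N := by
    refine Nat.eq_of_mul_eq_mul_right hpos ?_
    rw [h2, h1]
    ring
  rw [h3]
  refine Nat.mul_dvd_mul_left _ (relIndex_dvd_of_le_left _ ?_)
  rw [hC]
  exact centralizer_le hP₀

/-- an automorphism of prime order `s` of a group of order `p ^ 2` -/
theorem dvd_of_aut {A : Type*} [Group A] [hp : Fact p.Prime] (hA : Nat.card A = p ^ 2) {s : ℕ} (hs : s.Prime)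
    {α : MulAut A} (hα : orderOf α = s) : s ∣ p * (p - 1) * (p + 1) := by
  have hs' : Fact s.Prime := ⟨hs⟩
  have hp0 := hp.out.pos
  have hfin : Finite A := Nat.finite_of_card_ne_zero (by rw [hA]; positivity)
  have hG : IsPGroup s (zpowers α) := IsPGroup.of_card (n := 1) (by rw [Nat.card_zpowers, hα, pow_one])
  have h1 := hG.card_modEq_card_fixedPoints A
  have h2 : Nat.card (fixedPoints (zpowers α) A) = Nat.card (FixedPoints.subgroup (zpowers α) A) := rfl
  have h3 : Nat.card (FixedPoints.subgroup (zpowers α) A) ∣ p ^ 2 := hA ▸ Subgroup.card_subgroup_dvd_card _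
  obtain ⟨i, hi, hi'⟩ := (Nat.dvd_prime_pow hp.out).1 h3
  rw [h2, hi', hA] at h1
  have hi2 : i ≠ 2 := by
    rintro rfl
    have h4 : FixedPoints.subgroup (zpowers α) A = ⊤ := Subgroup.eq_top_of_card_eq _ (by rw [hi', hA])
    have h5 : α = 1 := by
      ext a
      have h6 : a ∈ FixedPoints.subgroup (zpowers α) A := by rw [h4]; exact mem_top a
      exact h6 ⟨α, mem_zpowers α⟩
    rw [h5, orderOf_one] at hα
    exact hs.one_lt.ne hα
  have hle : p ^ i ≤ p ^ 2 := Nat.pow_le_pow_right hp0 hi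
  have h7 : s ∣ p ^ 2 - p ^ i := (Nat.modEq_iff_dvd' hle).1 h1.symm
  interval_cases i
  · have e : p ^ 2 - p ^ 0 = (p - 1) * (p + 1) := by
      obtain ⟨m, rfl⟩ : ∃ m, p = m + 1 := ⟨p - 1, by omega⟩
      have : (m + 1) ^ 2 = (m + 1 - 1) * (m + 1 + 1) + 1 := by
        rw [Nat.add_sub_cancel]; ring
      rw [this, pow_zero, Nat.add_sub_cancel]
    rw [e] at h7
    rw [mul_assoc]
    exact h7.mul_left _
  · have e : p ^ 2 - p ^ 1 = p * (p - 1) := by
      rw [pow_one, Nat.mul_sub, mul_one, pow_two]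
    rw [e] at h7
    exact h7.mul_right _
  · exact absurd rfl hi2

/-- the same for one element, `|G|_p = p ^ 2` -/
theorem Sat.not_dvd_of_card_sq [hp : Fact p.Prime] {H : Subgroup G} (h : Sat p H)
    (hcard : (Nat.card G).factorization p = 2) {s : ℕ} (hs : s.Prime) (hsH : ¬ s ∣ Nat.card H)
    (hsp : ¬ s ∣ p * (p - 1) * (p + 1)) {x : G} (hx : x ∈ H) {k : ℕ} (hk : x ^ p ^ k = 1) :
    ¬ s ∣ (centralizer ({x} : Set G)).index := by
  intro hd
  obtain ⟨Q, hQ⟩ := exists_sylow_mem (p := p) hx hk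
  obtain ⟨P⟩ : Nonempty (Sylow p G) := inferInstance
  have hPc : Nat.card (P : Subgroup G) = p ^ 2 := by
    rw [← hcard]
    exact P.card_eq_multiplicity
  have hPab : IsMulCommutative (P : Subgroup G) := IsPGroup.isMulCommutative_of_card_eq_prime_sq hPc
  have h1 := h.index_centralizer_dvd P hPab Q
  have h2 : (centralizer ({x} : Set G)).index ∣
      (centralizer (((Q : Subgroup H).map H.subtype : Subgroup G) : Set G)).index :=
    Subgroup.index_dvd_of_le (centralizer_le (Set.singleton_subset_iff.2 hQ))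
  rcases hs.dvd_mul.1 (hd.trans (h2.trans h1)) with h4 | h4
  · exact hsH (h4.trans ((Q.card_dvd_index).trans (Subgroup.index_dvd_card _)))
  · have key := Subgroup.card_dvd_of_injective _
      (QuotientGroup.kerLift_injective (P : Subgroup G).normalizerMonoidHom)
    rw [normalizerMonoidHom_ker, ← index, ← relIndex] at key
    have hfin : Finite (MulAut (P : Subgroup G)) :=
      Finite.of_injective (fun (f : MulAut (P : Subgroup G)) (a : (P : Subgroup G)) => f a)
        fun f g hfg => MulEquiv.ext fun a => congrFun hfg a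
    have hs' : Fact s.Prime := ⟨hs⟩
    obtain ⟨α, hα⟩ := exists_prime_orderOf_dvd_card' s (h4.trans key)
    exact hsp (dvd_of_aut hPc hs hα)

end Cfsg.Agent.H786.KW
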