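import Cfsg.Agent.H146.KW.Iface
import Cfsg.Agent.H146.KW.Alt
import Cfsg.Agent.H146.KW.Psl
import Cfsg.Agent.H232.KW.SzRee
import Cfsg.Agent.H232.KW.PsuThree
import Cfsg.Agent.H838.KW.CrossDef

/-!
# S4243: assembly of the rows  (helper786)

* `Rows` : the rows which are not in the imports; `Rows.noKW : ¬ IsMulCommutative G → IsKnownSimple' G → NoKW G`;
* `OwnNo`, `noKW_of_own_cross` : a row from its own characteristic and its cross characteristic part.
-/

set_option autoImplicit false

universe u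

namespace Cfsg.Agent.H786.KW

open Cfsg Cfsg.Agent.H146.KW Cfsg.Agent.H838.KW

/-- The own characteristic part of the row `NoKW G`. -/
def OwnNo (r : ℕ) (G : Type u) [Group G] : Prop :=
  ∀ H : Subgroup G, IsSimpleGroup H → ¬ IsMulCommutative H → H ≠ ⊤ → PSubAll H → r ∣ Nat.card H → False

theorem noKW_of_own_cross {r : ℕ} {G : Type u} [Group G] (h1 : OwnNo r G) (h2 : CrossNo r G) : NoKW G := by
  intro H hs hc ht hK _
  by_cases hr : r ∣ Nat.card H
  · exact h1 H hs hc ht hK hr
  · exact h2 H hs hc ht hK hr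

/-- own characteristic of `r`-groups' characteristic 2: nothing to do in cross characteristic 2 -/
theorem crossNo_two {G : Type u} [Group G] [Finite G] : CrossNo 2 G := by
  intro H hs hc _ _ h2
  exact h2 (even_card (L := H) hc)

/-- the rows still to be proved -/
structure Rows : Prop where
  psp : ∀ (G : Type u) [Group G] [Finite G] [IsSimpleGroup G], IsPSp G → NoKW G
  psu : ∀ (G : Type u) [Group G] [Finite G] [IsSimpleGroup G] (F : Type) [Field F] [Fintype F] (n q : ℕ), 4 ≤ n → 2 ≤ q →
    Fintype.card F = q ^ 2 → Nonempty (G ≃* PSU n F q) → NoKW G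
  oodd : ∀ (G : Type u) [Group G] [Finite G] [IsSimpleGroup G], IsPOmegaOdd G → NoKW G
  oplus : ∀ (G : Type u) [Group G] [Finite G] [IsSimpleGroup G], IsPOmegaPlus G → NoKW G
  ominus : ∀ (G : Type u) [Group G] [Finite G] [IsSimpleGroup G], IsPOmegaMinus G → NoKW G
  g2 : ∀ (G : Type u) [Group G] [Finite G] [IsSimpleGroup G], Lie.IsoChevG2 G → NoKW G
  f4 : ∀ (G : Type u) [Group G] [Finite G] [IsSimpleGroup G], Lie.IsoF4 G → NoKW G
  e6 : ∀ (G : Type u) [Group G] [Finite G] [IsSimpleGroup G], Lie.IsoChevE6 G → NoKW G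
  e7 : ∀ (G : Type u) [Group G] [Finite G] [IsSimpleGroup G], Lie.IsoE7 G → NoKW G
  e8 : ∀ (G : Type u) [Group G] [Finite G] [IsSimpleGroup G], Lie.IsoE8 G → NoKW G
  te6 : ∀ (G : Type u) [Group G] [Finite G] [IsSimpleGroup G], Lie.Iso2E6 G → NoKW G
  td4 : ∀ (G : Type u) [Group G] [Finite G] [IsSimpleGroup G], Lie.Iso3D4 G → NoKW G
  tf4 : ∀ (G : Type u) [Group G] [Finite G] [IsSimpleGroup G], Lie.Iso2F4 G → NoKW G
  tits : ∀ (G : Type u) [Group G] [Finite G] [IsSimpleGroup G], Lie.IsoTits G → NoKW G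
  spor : ∀ (G : Type u) [Group G] [Finite G] [IsSimpleGroup G], IsSporadicGroup G → NoKW G

theorem Rows.noKW (h : Rows.{u}) (G : Type u) [Group G] [Finite G] [IsSimpleGroup G] (hc : ¬ IsMulCommutative G)
    (hk : IsKnownSimple' G) : NoKW G := by
  rcases hk with hk | hk | hk | hk | hk | hk | hk | hk | hk | hk
  · exfalso
    apply hc
    have : Fact (Nat.card G).Prime := ⟨hk⟩
    have : IsCyclic G := isCyclic_of_prime_card rfl
    exact ⟨⟨fun a b => IsCyclic.commGroup.mul_comm a b⟩⟩
  · exact Alt.noKW_of_isAlternating hk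
  · exact Psl.noKW_of_isPSL hk
  · exact h.psp G hk
  · obtain ⟨F, _, _, n, q, hF, hn, hne, e⟩ := hk
    have hq : 2 ≤ q := by
      have h1 : 1 < Fintype.card F := Fintype.one_lt_card
      rw [hF] at h1
      by_contra h2
      interval_cases q <;> omega
    by_cases h3 : n = 3
    · subst h3
      obtain ⟨e⟩ := e
      exact Cfsg.Agent.H232.KW.noKW_psu_three hF (by omega) e
    · exact h.psu G F n q (by omega) hq hF e
  · exact h.oodd G hk
  · exact h.oplus G hk
  · exact h.ominus G hk
  · rcases hk with hk | hk | hk | hk | hk | hk | hk | hk | hk | hk | hk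
    · exact h.g2 G hk
    · exact h.f4 G hk
    · exact h.e6 G hk
    · exact h.e7 G hk
    · exact h.e8 G hk
    · exact h.te6 G hk
    · exact h.td4 G hk
    · exact Cfsg.Agent.H232.KW.noKW_suzuki hk
    · exact Cfsg.Agent.H232.KW.noKW_ree hk
    · exact h.tf4 G hk
    · exact h.tits G hk
  · exact h.spor G hk

/-- The statement of S4243 from the rows and the classification. -/
theorem statement_of_rows (h : Rows.{u})
    (hcl : ∀ (G : Type u) [Group G] [Finite G] [IsSimpleGroup G], IsKnownSimple' G)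
    {G : Type u} [Group G] [Finite G] (H : Subgroup G) :
    H.IsSubnormal ↔ ∀ K : Subgroup G, (H ⊓ K).relIndex K ∣ H.index :=
  statement_of_simpleCase (simpleCase_of_rows hcl fun G _ _ _ hc hk => h.noKW G hc hk) H

end Cfsg.Agent.H786.KW
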