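import Cfsg.Prelude.Def_Classification2
import Cfsg.Agent.H140.KW.RowG2
import Cfsg.Agent.H140.KW.RowTwD4
import Cfsg.Agent.H232.KW.E7
import Cfsg.Agent.H232.KW.E8
import Cfsg.Agent.H232.KW.SzRee
import Cfsg.Agent.H118.KW.RowTE6
import Cfsg.Agent.H118.KW.RowE6
import Cfsg.Agent.H622.KW.RowF4
import Cfsg.Agent.H622.KW.Row2F4

/-!
# S4243: the exceptional groups (the Tits group is in `H550.KW.RowsB`)  (helper786)
-/

set_option autoImplicit false

universe u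

namespace Cfsg.Agent.H786.KW

open Cfsg Cfsg.Agent.H146.KW

theorem noKW_exceptional {G : Type u} [Group G] [Finite G] [IsSimpleGroup G] (ht : Lie.IsoTits G → NoKW G)
    (hk : IsExceptionalLieType G) : NoKW G := by
  rcases hk with hk | hk | hk | hk | hk | hk | hk | hk | hk | hk | hk
  · exact Cfsg.Agent.H140.KW.noKW_G2 hk
  · exact Cfsg.Agent.H622.KW.noKW_F4 hk
  · exact Cfsg.Agent.H118.KW.E6.noKW_isoE6 hk
  · exact Cfsg.Agent.H232.KW.noKW_isoE7 hk
  · exact Cfsg.Agent.H232.KW.noKW_isoE8 hk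
  · exact Cfsg.Agent.H118.KW.TE6.noKW_iso2E6 hk
  · exact Cfsg.Agent.H140.KW.noKW_twD4 hk
  · exact Cfsg.Agent.H232.KW.noKW_suzuki hk
  · exact Cfsg.Agent.H232.KW.noKW_ree hk
  · exact Cfsg.Agent.H622.KW.noKW_2F4 hk
  · exact ht hk

end Cfsg.Agent.H786.KW
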