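import Cfsg.Agent.H550.KW.RowsA
import Cfsg.Agent.H550.KW.RowsB
import Cfsg.Agent.H550.KW.RowsC
import Cfsg.Agent.H521.KW.RowsA
import Cfsg.Agent.H521.KW.RowsB
import Cfsg.Agent.H521.KW.RowM

/-!
# S4243: the sporadic groups  (helper786)
-/

set_option autoImplicit false

universe u

namespace Cfsg.Agent.H786.KW

open Cfsg Cfsg.Agent.H146.KW Cfsg.Agent.H550.KW Cfsg.Agent.H521.KW

theorem noKW_sporadic (hK : AllK.{u}) {G : Type u} [Group G] [Finite G] [IsSimpleGroup G] (hk : IsSporadicGroup G) :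
    NoKW G := by
  rcases hk with h | h | h | h | h | h | h | h | h | h | h | h | h | h | h | h | h | h | h | h | h | h | h | h | h | h
  · exact noKW_m11 h
  · exact noKW_m12 h
  · exact noKW_m22 h
  · exact noKW_m23 h
  · exact noKW_m24 h
  · exact noKW_j1 h
  · exact noKW_j2 h
  · exact noKW_j3 h
  · exact noKW_j4 h
  · exact noKW_co1 h
  · exact noKW_co2 h
  · exact noKW_co3 h
  · exact noKW_mcl h
  · exact noKW_hs h
  · exact noKW_suz h
  · exact noKW_he h
  · exact noKW_ru h
  · exact noKW_on h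
  · exact noKW_ly hK h
  · exact noKW_fi22 h
  · exact noKW_fi23 h
  · exact noKW_fi24 h
  · exact noKW_hn hK h
  · exact noKW_th h
  · exact noKW_b h
  · exact noKW_m hK h

end Cfsg.Agent.H786.KW
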