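import Cfsg.Agent.H786.KW.Assemble
import Cfsg.Agent.H786.KW.Exc
import Cfsg.Agent.H786.KW.Spor
import Cfsg.Agent.H838.KW.Final

/-!
# S4243 from the classification  (helper786)
-/

set_option autoImplicit false

universe u

namespace Cfsg.Agent.H786.KW

open Cfsg Cfsg.Agent.H146.KW Cfsg.Agent.H550.KW

theorem rows (hK : AllK.{u}) : Rows.{u} where
  psp := fun _ _ _ _ h => Cfsg.Agent.H838.KW.noKW_psp h
  psu := fun G _ _ _ F _ _ n q hn _ hF e => Cfsg.Agent.H838.KW.noKW_psu G F n q hn hF e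
  oodd := fun _ _ _ _ h => Cfsg.Agent.H838.KW.noKW_podd h
  oplus := fun _ _ _ _ h => Cfsg.Agent.H838.KW.noKW_poplus h
  ominus := fun _ _ _ _ h => Cfsg.Agent.H838.KW.noKW_pominus h
  g2 := fun _ _ _ _ h => noKW_exceptional noKW_tits (Or.inl h)
  f4 := fun _ _ _ _ h => noKW_exceptional noKW_tits (Or.inr (Or.inl h))
  e6 := fun _ _ _ _ h => noKW_exceptional noKW_tits (Or.inr (Or.inr (Or.inl h)))
  e7 := fun _ _ _ _ h => noKW_exceptional noKW_tits (Or.inr (Or.inr (Or.inr (Or.inl h))))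
  e8 := fun _ _ _ _ h => noKW_exceptional noKW_tits (Or.inr (Or.inr (Or.inr (Or.inr (Or.inl h)))))
  te6 := fun _ _ _ _ h => noKW_exceptional noKW_tits (Or.inr (Or.inr (Or.inr (Or.inr (Or.inr (Or.inl h))))))
  td4 := fun _ _ _ _ h => noKW_exceptional noKW_tits (Or.inr (Or.inr (Or.inr (Or.inr (Or.inr (Or.inr (Or.inl h)))))))
  tf4 := fun _ _ _ _ h => Cfsg.Agent.H622.KW.noKW_2F4 h
  tits := fun _ _ _ _ h => noKW_tits h
  spor := fun _ _ _ _ h => noKW_sporadic hK h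

theorem main (hK : AllK.{u}) {G : Type u} [Group G] [Finite G] (H : Subgroup G) :
    H.IsSubnormal ↔ ∀ K : Subgroup G, (H ⊓ K).relIndex K ∣ H.index :=
  statement_of_rows (rows hK) hK H

end Cfsg.Agent.H786.KW
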